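import Groth.Agent.AcyclicTorLib
import Groth.Agent.CommAlgDim.Depth
import Mathlib

/-!
Minimal complexes of free modules: non-vanishing of homology within `depth` steps from the top.
-/

set_option autoImplicit false
universe u

open CategoryTheory RingTheory.Sequence IsLocalRing
open scoped Pointwise

namespace Groth.Agent.MinimalCxLib

variable {R : Type u} [CommRing R]

/-- exactness in positions `≤ length` descends to injectivity modulo a regular sequence -/
theorem mem_smul_of_exact : ∀ (rs : List R) (X : ℕ → Type u) [∀ i, AddCommGroup (X i)] [∀ i, Module R (X i)]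
    (d : ∀ i, X i →ₗ[R] X (i + 1)), (∀ i x, d (i + 1) (d i x) = 0) →
    (∀ i, IsWeaklyRegular (X i) rs) →
    (∀ i, i ≤ rs.length → ∀ y, d i y = 0 → y ∈ AcyclicTorLib.img d i) →
    ∀ y : X 0, d 0 y ∈ Ideal.ofList rs • (⊤ : Submodule R (X 1)) → y ∈ Ideal.ofList rs • (⊤ : Submodule R (X 0))
  | [], X, _, _, d, _, _, hex, y, hy => by
    rw [Ideal.ofList_nil, Submodule.bot_smul, Submodule.mem_bot] at hy
    have h := hex 0 le_rfl y hy
    rw [show y = 0 from h]
    exact zero_mem _
  | x :: rs, X, _, _, d, hdd, hreg, hex, y, hy => by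
    have hx : ∀ i, IsSMulRegular (X i) x := fun i => ((isWeaklyRegular_cons_iff _ _ _).1 (hreg i)).1
    let Y : ℕ → Type u := fun i => QuotSMulTop x (X i)
    let q : ∀ i, X i →ₗ[R] Y i := fun i => Submodule.mkQ _
    have hq : ∀ i v, q i v = 0 ↔ ∃ w, x • w = v := fun i v => by
      show Submodule.mkQ (x • (⊤ : Submodule R (X i))) v = 0 ↔ _
      rw [Submodule.mkQ_apply, Submodule.Quotient.mk_eq_zero, Submodule.mem_smul_pointwise_iff_exists]
      simp
    let e : ∀ i, Y i →ₗ[R] Y (i + 1) := fun i => Submodule.mapQ _ _ (d i) (by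
      intro v hv
      obtain ⟨w, -, rfl⟩ := (Submodule.mem_smul_pointwise_iff_exists _ _ _).1 hv
      exact (Submodule.mem_smul_pointwise_iff_exists _ _ _).2 ⟨d i w, Submodule.mem_top, (map_smul _ _ _).symm⟩)
    have he : ∀ i v, e i (q i v) = q (i + 1) (d i v) := fun i v => rfl
    have hmap : ∀ i v, q i v ∈ Ideal.ofList rs • (⊤ : Submodule R (Y i)) ↔
        v ∈ Ideal.ofList (x :: rs) • (⊤ : Submodule R (X i)) := by
      intro i v
      have hc : (Ideal.ofList rs • (⊤ : Submodule R (Y i))).comap (q i) =
          Ideal.ofList (x :: rs) • (⊤ : Submodule R (X i)) := by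
        rw [Ideal.ofList_cons_smul, ← Submodule.range_mkQ (x • (⊤ : Submodule R (X i))),
          LinearMap.range_eq_map, ← Submodule.map_smul'', Submodule.comap_map_eq, Submodule.ker_mkQ, sup_comm]
      rw [← hc, Submodule.mem_comap]
    have hY := mem_smul_of_exact rs Y e
      (fun i z => by
        obtain ⟨v, rfl⟩ := Submodule.mkQ_surjective _ z
        show q (i + 2) (d (i + 1) (d i v)) = 0
        rw [hdd, map_zero])
      (fun i => ((isWeaklyRegular_cons_iff _ _ _).1 (hreg i)).2) (by
        intro i hi z hz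
        obtain ⟨v, rfl⟩ := Submodule.mkQ_surjective _ z
        obtain ⟨w, hw⟩ := (hq _ _).1 ((he i v).symm.trans hz)
        have hdw : d (i + 1) w = 0 := hx (i + 2) (by
          show x • _ = x • _
          rw [← map_smul, hw, hdd, smul_zero])
        obtain ⟨t, ht⟩ := hex (i + 1) (by simp only [List.length_cons]; omega) w hdw
        have hker : d i (v - x • t) = 0 := by rw [map_sub, map_smul, ht, hw, sub_self]
        have h1 := hex i (by simp only [List.length_cons]; omega) _ hker
        have h2 : q i v = q i (v - x • t) := by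
          rw [map_sub, (hq i (x • t)).2 ⟨t, rfl⟩, sub_zero]
        show q i v ∈ AcyclicTorLib.img e i
        rw [h2]
        cases i with
        | zero =>
          rw [show v - x • t = 0 from h1, map_zero]
          exact zero_mem _
        | succ j =>
          obtain ⟨s, hs⟩ := h1
          exact ⟨q j s, by rw [he, hs]⟩)
      (q 0 y) (by rw [he]; exact (hmap 1 _).2 hy)
    exact (hmap 0 y).1 hY

variable [IsLocalRing R] [IsNoetherianRing R]

/-- a maximal regular sequence with a socle element -/
theorem exists_socle {d : ℕ} (hd : LocCoh.depth R R = d) :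
    ∃ rs : List R, rs.length = d ∧ IsWeaklyRegular R rs ∧
      ∃ z : R, z ∉ Ideal.ofList rs ∧ ∀ a ∈ maximalIdeal R, z * a ∈ Ideal.ofList rs := by
  obtain ⟨rs, hl, hm, hr⟩ := (CommAlgDim.le_depth_iff (R := R) (M := R) d).1 hd.ge
  refine ⟨rs, hl, hr, ?_⟩
  have h1 : ∃ p ∈ associatedPrimes R (R ⧸ Ideal.ofList rs • (⊤ : Submodule R R)), maximalIdeal R ≤ p := by
    by_contra hcon
    push Not at hcon
    obtain ⟨a, ha, hareg⟩ := CommAlgDim.exists_isSMulRegular_mem hcon
    have hsucc : ((d + 1 : ℕ) : ℕ∞) ≤ LocCoh.depth R R := (CommAlgDim.le_depth_iff _).2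
      ⟨rs ++ [a], by simp [hl], by
        intro r hr'
        rcases List.mem_append.1 hr' with h | h
        · exact hm r h
        · rw [List.mem_singleton] at h; exact h ▸ ha,
        (isWeaklyRegular_append_iff _ _ _).2 ⟨hr, (isWeaklyRegular_singleton_iff _ _).2 hareg⟩⟩
    rw [hd, Nat.cast_le] at hsucc
    omega
  obtain ⟨p, hp, hmp⟩ := h1
  obtain ⟨hpp, f, hf⟩ := (isAssociatedPrime_iff_exists_injective_linearMap p _).1 hp
  obtain ⟨z, hz⟩ := Submodule.Quotient.mk_surjective _ (f 1)
  have hmem : ∀ b : R, b ∈ Ideal.ofList rs • (⊤ : Submodule R R) ↔ b ∈ Ideal.ofList rs := fun b => by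
    rw [smul_eq_mul, Ideal.mul_top]
  refine ⟨z, fun h => ?_, fun a ha => ?_⟩
  · rw [← hmem, ← Submodule.Quotient.mk_eq_zero, hz, map_eq_zero_iff f hf] at h
    exact hpp.ne_top ((Ideal.eq_top_iff_one _).2 (Ideal.Quotient.eq_zero_iff_mem.1 h))
  · rw [← hmem, ← Submodule.Quotient.mk_eq_zero, mul_comm, ← smul_eq_mul, Submodule.Quotient.mk_smul, hz,
      ← map_smul, map_eq_zero_iff f hf, Algebra.smul_def, mul_one, Ideal.Quotient.algebraMap_eq,
      Ideal.Quotient.eq_zero_iff_mem]
    exact hmp ha

/-- reversed indexing of a complex of length `k` -/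
def idx (k j : ℕ) : ℕ := if j ≤ k then k - j else j

theorem exists_homology_ne_zero (F : ChainComplex (ModuleCat.{u} R) ℕ) (k : ℕ)
    (hbd : ∀ i, k < i → Limits.IsZero (F.X i)) (htop : ¬ Limits.IsZero (F.X k))
    (hfree : ∀ i, Module.Free R (F.X i) ∧ Module.Finite R (F.X i))
    (hmin : ∀ i j, LinearMap.range (F.d i j).hom ≤ maximalIdeal R • (⊤ : Submodule R (F.X j)))
    (d : ℕ) (hd : LocCoh.depth R R = d) :
    ∃ i, k - d ≤ i ∧ i ≤ k ∧ ¬ Limits.IsZero (F.homology i) := by
  classical
  by_contra hcon
  push Not at hcon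
  obtain ⟨rs, hl, hr, z, hz, hzm⟩ := exists_socle hd
  let X : ℕ → Type u := fun j => F.X (idx k j)
  let δ : ∀ j, X j →ₗ[R] X (j + 1) := fun j => (F.d (idx k j) (idx k (j + 1))).hom
  have hdd : ∀ j x, δ (j + 1) (δ j x) = 0 := fun j x => by
    show (F.d (idx k (j + 1)) (idx k (j + 1 + 1))).hom ((F.d (idx k j) (idx k (j + 1))).hom x) = 0
    rw [← ModuleCat.comp_apply, F.d_comp_d]; rfl
  have hreg : ∀ j, IsWeaklyRegular (X j) rs := fun j => by
    have := (hfree (idx k j)).1
    have := (hfree (idx k j)).2
    let b := Module.finBasis R (F.X (idx k j))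
    exact (b.equivFun.isWeaklyRegular_congr rs).2 (AcyclicTorLib.isWeaklyRegular_pi rs R hr)
  have hex : ∀ j, j ≤ rs.length → ∀ y, δ j y = 0 → y ∈ AcyclicTorLib.img δ j := by
    intro j hj y hy
    rw [hl] at hj
    by_cases hjk : j ≤ k
    · have hidx : idx k j = k - j := if_pos hjk
      have hz0 := hcon (k - j) (by omega) (by omega)
      have hz1 : Limits.IsZero (F.homology (idx k j)) := by rw [hidx]; exact hz0
      rw [← HomologicalComplex.exactAt_iff_isZero_homology] at hz1
      have hn : (ComplexShape.down ℕ).next (idx k j) = if j < k then idx k (j + 1) else idx k j := by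
        split_ifs with h
        · rw [show idx k j = idx k (j + 1) + 1 by simp only [idx, if_pos hjk, if_pos (by omega : j + 1 ≤ k)]; omega]
          exact ChainComplex.next_nat_succ _
        · rw [show idx k j = 0 by rw [hidx]; omega]
          exact ChainComplex.next_nat_zero
      have hp : (ComplexShape.down ℕ).prev (idx k j) = idx k j + 1 := ChainComplex.prev ℕ _
      rw [F.exactAt_iff' (idx k j + 1) (idx k j) _ hp hn, CategoryTheory.ShortComplex.moduleCat_exact_iff] at hz1
      have hy' : (F.d (idx k j) (if j < k then idx k (j + 1) else idx k j)).hom y = 0 := by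
        by_cases h : j < k
        · rw [if_pos h]; exact hy
        · rw [if_neg h, F.shape _ _ (by simp)]; rfl
      obtain ⟨w, hw⟩ := hz1 y hy'
      cases j with
      | zero =>
        have : w = 0 := by
          haveI : Subsingleton (F.X (idx k 0 + 1)) :=
            ModuleCat.subsingleton_of_isZero (hbd _ (by simp [idx]))
          exact Subsingleton.elim (α := F.X (idx k 0 + 1)) w 0
        rw [this, map_zero] at hw
        rw [← hw]
        exact zero_mem _
      | succ l =>
        have e : idx k (l + 1) + 1 = idx k l := by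
          simp only [idx, if_pos hjk, if_pos (by omega : l ≤ k)]; omega
        have : ∀ (a : ℕ) (_ : a = idx k l) (w : F.X a), (F.d a (idx k (l + 1))).hom w = y → y ∈ AcyclicTorLib.img δ (l + 1) := by
          rintro a rfl w hw
          exact ⟨w, hw⟩
        exact this _ e w hw
    · haveI : Subsingleton (X j) := ModuleCat.subsingleton_of_isZero (hbd _ (by simp only [idx, if_neg hjk]; omega))
      rw [Subsingleton.elim y 0]
      exact zero_mem _
  have h0 : idx k 0 = k := by simp [idx]
  apply htop
  rw [← h0]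
  haveI := (hfree (idx k 0)).1
  haveI := (hfree (idx k 0)).2
  let b := Module.finBasis R (F.X (idx k 0))
  haveI : IsEmpty (Fin (Module.finrank R (F.X (idx k 0)))) := by
    refine ⟨fun i => ?_⟩
    have hyz : δ 0 (z • b i) ∈ Ideal.ofList rs • (⊤ : Submodule R (X 1)) := by
      rw [map_smul]
      have h1 := hmin (idx k 0) (idx k 1) ⟨b i, rfl⟩
      refine Submodule.smul_induction_on h1 (fun a ha n _ => ?_) (fun a a' ha ha' => by rw [smul_add]; exact add_mem ha ha')
      rw [smul_smul]
      exact Submodule.smul_mem_smul (hzm a ha) trivial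
    have h2 := mem_smul_of_exact rs X δ hdd hreg hex (z • b i) hyz
    have h3 : b.repr (z • b i) i ∈ Ideal.ofList rs := by
      refine Submodule.smul_induction_on h2 (fun a ha n _ => ?_) (fun a a' ha ha' => by
        simp only [map_add, Finsupp.add_apply]; exact add_mem ha ha')
      simp only [map_smul, Finsupp.smul_apply, smul_eq_mul]
      exact Ideal.mul_mem_right _ _ ha
    simp at h3
    exact hz h3
  haveI : Subsingleton (F.X (idx k 0)) := b.repr.toEquiv.subsingleton
  exact ModuleCat.isZero_of_subsingleton _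

theorem isZero_homology_of_lt (F : ChainComplex (ModuleCat.{u} R) ℕ) (k : ℕ)
    (hbd : ∀ i, k < i → Limits.IsZero (F.X i))
    (hfree : ∀ i, Module.Free R (F.X i) ∧ Module.Finite R (F.X i))
    (hfl : ∀ i, IsFiniteLength R (F.homology i))
    (d : ℕ) (hd : LocCoh.depth R R = d) (i : ℕ) (hi : k - d < i) : Limits.IsZero (F.homology i) := by
  classical
  by_cases hik : k < i
  · rw [← HomologicalComplex.exactAt_iff_isZero_homology]
    exact ShortComplex.exact_of_isZero_X₂ _ (hbd i hik)
  push Not at hik
  obtain ⟨rs, hl, hm, hr⟩ := (CommAlgDim.le_depth_iff (R := R) (M := R) d).1 hd.ge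
  let X : ℕ → Type u := fun j => F.X (idx k j)
  let δ : ∀ j, X j →ₗ[R] X (j + 1) := fun j => (F.d (idx k j) (idx k (j + 1))).hom
  have hdd : ∀ j x, δ (j + 1) (δ j x) = 0 := fun j x => by
    show (F.d (idx k (j + 1)) (idx k (j + 1 + 1))).hom ((F.d (idx k j) (idx k (j + 1))).hom x) = 0
    rw [← ModuleCat.comp_apply, F.d_comp_d]; rfl
  have hreg : ∀ j, IsWeaklyRegular (X j) rs := fun j => by
    have := (hfree (idx k j)).1
    have := (hfree (idx k j)).2
    let b := Module.finBasis R (F.X (idx k j))
    exact (b.equivFun.isWeaklyRegular_congr rs).2 (AcyclicTorLib.isWeaklyRegular_pi rs R hr)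
  have hrange : ∀ j, j ≤ k → LinearMap.range (F.d (idx k j + 1) (idx k j)).hom ≤ AcyclicTorLib.img δ j := by
    intro j hjk
    rintro _ ⟨w, rfl⟩
    cases j with
    | zero =>
      haveI : Subsingleton (F.X (idx k 0 + 1)) :=
        ModuleCat.subsingleton_of_isZero (hbd _ (by simp [idx]))
      rw [Subsingleton.elim w 0, map_zero]
      exact zero_mem _
    | succ l =>
      have e : idx k (l + 1) + 1 = idx k l := by
        simp only [idx, if_pos hjk, if_pos (by omega : l ≤ k)]; omega
      have : ∀ (a : ℕ) (_ : a = idx k l) (w : F.X a), (F.d a (idx k (l + 1))).hom w ∈ AcyclicTorLib.img δ (l + 1) := by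
        rintro a rfl w
        exact ⟨w, rfl⟩
      exact this _ e w
  have htor : ∀ j, j < rs.length → ∀ y, δ j y = 0 → ∀ a ∈ maximalIdeal R,
      ∃ N : ℕ, a ^ N • y ∈ AcyclicTorLib.img δ j := by
    intro j hj y hy a ha
    by_cases hjk : j ≤ k
    · have hp : (ComplexShape.down ℕ).prev (idx k j) = idx k j + 1 := ChainComplex.prev ℕ _
      let S := F.sc' (idx k j + 1) (idx k j) ((ComplexShape.down ℕ).next (idx k j))
      have hy' : S.g.hom y = 0 := by
        show (F.d (idx k j) ((ComplexShape.down ℕ).next (idx k j))).hom y = 0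
        by_cases h : j < k
        · have hn : (ComplexShape.down ℕ).next (idx k j) = idx k (j + 1) := by
            rw [show idx k j = idx k (j + 1) + 1 by simp only [idx, if_pos hjk, if_pos (by omega : j + 1 ≤ k)]; omega]
            exact ChainComplex.next_nat_succ _
          rw [hn]
          exact hy
        · have h0 : idx k j = 0 := by simp only [idx, if_pos hjk]; omega
          rw [F.shape _ _ (by rw [h0, ChainComplex.next_nat_zero]; simp)]
          rfl
      let e : F.homology (idx k j) ≅ S.moduleCatLeftHomologyData.H :=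
        F.homologyIsoSc' _ _ _ hp rfl ≪≫ S.moduleCatHomologyIso
      let H := LinearMap.ker S.g.hom ⧸ LinearMap.range S.moduleCatToCycles
      have hH : IsFiniteLength R H :=
        (hfl _).of_surjective (f := e.toLinearEquiv.toLinearMap) e.toLinearEquiv.surjective
      obtain ⟨hN, hA⟩ := isFiniteLength_iff_isNoetherian_isArtinian.1 hH
      obtain ⟨N, hN'⟩ := IsArtinian.monotone_stabilizes (R := R) (M := H)
        ⟨fun n => OrderDual.toDual ((Ideal.span {a} ^ n) • (⊤ : Submodule R H)),
          fun n l hnl => Submodule.smul_mono_left (Ideal.pow_le_pow_right hnl)⟩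
      have h0 : (Ideal.span {a} ^ N) • (⊤ : Submodule R H) = ⊥ := by
        refine Submodule.eq_bot_of_le_smul_of_le_jacobson_bot (Ideal.span {a}) _ (IsNoetherian.noetherian _) ?_ ?_
        · rw [← Submodule.mul_smul, ← pow_succ']
          exact le_of_eq (congrArg OrderDual.ofDual (hN' (N + 1) (Nat.le_succ N)))
        · exact ((Ideal.span_singleton_le_iff_mem _).2 ha).trans (IsLocalRing.maximalIdeal_le_jacobson _)
      refine ⟨N, ?_⟩
      have h1 : a ^ N • (Submodule.Quotient.mk (⟨y, hy'⟩ : LinearMap.ker S.g.hom) : H) = 0 := by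
        rw [← Submodule.mem_bot R, ← h0]
        exact Submodule.smul_mem_smul (Ideal.pow_mem_pow (Ideal.mem_span_singleton_self a) N) Submodule.mem_top
      rw [← Submodule.Quotient.mk_smul, Submodule.Quotient.mk_eq_zero] at h1
      obtain ⟨w, hw⟩ := h1
      exact hrange j hjk ⟨w, congrArg Subtype.val hw⟩
    · haveI : Subsingleton (X j) := ModuleCat.subsingleton_of_isZero (hbd _ (by simp only [idx, if_neg hjk]; omega))
      refine ⟨0, ?_⟩
      rw [Subsingleton.elim (a ^ 0 • y) 0]
      exact zero_mem _
  have hex := AcyclicTorLib.mem_img_of_torsion rs (maximalIdeal R) (IsLocalRing.maximalIdeal_le_jacobson _)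
    hm X δ hdd hreg htor (k - i) (by omega)
  have hidx : idx k (k - i) = i := by simp only [idx, if_pos (by omega : k - i ≤ k)]; omega
  rw [← HomologicalComplex.exactAt_iff_isZero_homology]
  rw [F.exactAt_iff' (i + 1) i ((ComplexShape.down ℕ).next i) (ChainComplex.prev ℕ i) rfl,
    CategoryTheory.ShortComplex.moduleCat_exact_iff]
  obtain ⟨l, hl'⟩ : ∃ l, i = l + 1 := ⟨i - 1, by omega⟩
  intro y hy
  have haux : ∀ j, j ≤ k → ∀ y : X j, y ∈ AcyclicTorLib.img δ j →
      y ∈ LinearMap.range (F.d (idx k j + 1) (idx k j)).hom := by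
    intro j hjk y hy2
    cases j with
    | zero =>
      rw [show y = 0 from hy2]
      exact zero_mem _
    | succ m' =>
      obtain ⟨w, hw⟩ := hy2
      have e : idx k (m' + 1) + 1 = idx k m' := by
        simp only [idx, if_pos hjk, if_pos (by omega : m' ≤ k)]; omega
      have : ∀ (a : ℕ) (_ : idx k m' = a), y ∈ LinearMap.range (F.d a (idx k (m' + 1))).hom := by
        rintro a rfl
        exact ⟨w, hw⟩
      exact this _ e.symm
  have key2 : ∀ (m : ℕ) (_ : idx k (k - i) = m) (y : F.X m), (F.d m l).hom y = 0 →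
      y ∈ LinearMap.range (F.d (m + 1) m).hom := by
    rintro m rfl y hy
    have h1 : δ (k - i) y = 0 := by
      have hl2 : idx k (k - i + 1) = l := by simp only [idx, if_pos (by omega : k - i + 1 ≤ k)]; omega
      subst hl2
      exact hy
    have h2 := hex y h1
    exact haux (k - i) (by omega) y h2
  refine key2 i hidx y ?_
  have hn : (ComplexShape.down ℕ).next i = l := by rw [hl']; exact ChainComplex.next_nat_succ l
  have : ∀ (n : ℕ) (_ : (ComplexShape.down ℕ).next i = n), (F.d i n).hom y = 0 := by
    rintro n rfl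
    exact hy
  exact this l hn

end Groth.Agent.MinimalCxLib
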